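import Groth.Agent.EtTraceLib.Count
import Groth.Agent.ShriekLib.Etale
import Groth.Agent.ShriekLib.Compact
import Groth.Agent.EtFound.JContGen
import Groth.Agent.EtFound.FinitePoints
import Groth.Agent.EtFound.FiniteStalk

/-!
# Trace for finite etale morphisms
-/

universe u

open CategoryTheory CategoryTheory.Limits AlgebraicGeometry Opposite

namespace EtTraceLib

set_option backward.isDefEq.respectTransparency false
set_option backward.isDefEq.respectTransparency.types false
set_option linter.unusedSectionVars false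
set_option linter.style.haveILetI false

open Groth.Agent

variable {U X : Scheme.{u}} (j : U ⟶ X) [Etale j] [EtShriek.JCont j]

/-- `compEtale j ⊣ bc j` -/
noncomputable def compBcAdj : EtShriek.compEtale j ⊣ EtCoh.bc j :=
  MorphismProperty.Over.mapPullbackAdj EtCoh.etaleMP ⊤ j (inferInstanceAs (AlgebraicGeometry.Etale j)) trivial

/-- `j^{-1}` by restriction -/
noncomputable def restrIsoPull : EtShriek.restrAlong j ≅ EtCoh.pull j :=
  Adjunction.leftAdjointUniq
    ((compBcAdj j).sheafPushforwardContinuous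
      (E := AddCommGrpCat.{u + 1}) U.smallEtaleTopology X.smallEtaleTopology)
    (EtCoh.pullPushAdj j)

theorem unit_eq (G : EtCoh.Ab X) (V : X.Etale) (t : EtCoh.sect G V) :
    ((EtCoh.pullPushAdj j).unit.app G).hom.app (op V) t =
      ((restrIsoPull j).hom.app G).hom.app (op ((EtCoh.bc j).obj V)) (G.obj.map ((compBcAdj j).counit.app V).op t) := by
  have h := Adjunction.unit_leftAdjointUniq_hom_app
    ((compBcAdj j).sheafPushforwardContinuous (E := AddCommGrpCat.{u + 1}) U.smallEtaleTopology X.smallEtaleTopology)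
    (EtCoh.pullPushAdj j) G
  rw [← h]
  rfl

variable [IsFinite j] [Flat j] [LocallyOfFinitePresentation j]

theorem isIso_toPush : IsIso (ShriekLib.toShriek j ≫ ShriekLib.shriekShι j) := by
  have : ∀ F, IsIso ((ShriekLib.toShriek j ≫ ShriekLib.shriekShι j).app F) := fun F => by
    have := ShriekLib.isIso_toShriek_app j F
    have := ShriekLib.isIso_shriekShι_of_isProper j F
    rw [NatTrans.comp_app]
    infer_instance
  exact NatIso.isIso_of_isIso_app _

/-- `j_* ⊣ j^{-1}` for finite etale `j` -/
noncomputable def traceAdj : EtCoh.push j ⊣ EtCoh.pull j :=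
  haveI := isIso_toPush j
  ((EtShriek.extZeroAdj j).ofNatIsoRight (restrIsoPull j)).ofNatIsoLeft
    (asIso (ShriekLib.toShriek j ≫ ShriekLib.shriekShι j))

theorem traceAdj_counit (F : EtCoh.Ab X) :
    (ShriekLib.toShriek j ≫ ShriekLib.shriekShι j).app ((EtCoh.pull j).obj F) ≫ (traceAdj j).counit.app F =
      (EtShriek.extZero j).map ((restrIsoPull j).inv.app F) ≫ (EtShriek.extZeroAdj j).counit.app F := by
  haveI := isIso_toPush j
  simp [traceAdj, Adjunction.ofNatIsoLeft, Adjunction.ofNatIsoRight]

theorem eq_of_algClosed_germs {F G : EtCoh.Ab X} (a b : F ⟶ G)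
    (h : ∀ (k : Type u) [Field k] [IsAlgClosed k] (ξ : Spec (CommRingCat.of k) ⟶ X) (V : X.Etale)
      (v : (Scheme.pointSmallEtale ξ).fiber.obj V) (t : EtCoh.sect F V),
      (EtCoh.stalk ξ).map a ((Scheme.pointSmallEtale ξ).toPresheafFiber V v F.obj t) =
        (EtCoh.stalk ξ).map b ((Scheme.pointSmallEtale ξ).toPresheafFiber V v F.obj t)) : a = b := by
  refine ObjectProperty.hom_ext _ ?_
  ext V t
  refine sub_eq_zero.1 (ShriekLib.eq_zero_of_sectSupp_empty (Set.eq_empty_iff_forall_notMem.2 fun x hx => ?_))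
  rw [ShriekLib.sectSupp_eq_germSupp] at hx
  obtain ⟨k, _, _, ξ, v, rfl⟩ := EtFound.exists_algClosed_point _ x
  refine (EtFound.mem_germSupp_iff _ v).1 hx ?_
  rw [map_sub, sub_eq_zero]
  refine ((Scheme.pointSmallEtale ξ).toPresheafFiber_naturality_apply a.hom _ v t).symm.trans ?_
  exact (h k ξ _ v t).trans ((Scheme.pointSmallEtale ξ).toPresheafFiber_naturality_apply b.hom _ v t)

variable {Ω : Type u} [Field Ω] [IsAlgClosed Ω] {ξ : Spec (CommRingCat.of Ω) ⟶ X}

theorem injective_projStalk (F : EtCoh.Ab U) (a b : (EtCoh.stalk ξ).obj ((EtCoh.push j).obj F))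
    (h : ∀ z : EtFound.PtsOver j ξ, ShriekLib.projStalk j z F a = ShriekLib.projStalk j z F b) : a = b := by
  have key : ∀ (z : EtFound.PtsOver j ξ) (c : (EtCoh.stalk ξ).obj ((EtCoh.push j).obj F)),
      (EtFound.pushStalkAt j z.2).app F c = ShriekLib.projStalk j z F c := by
    intro z c
    obtain ⟨V, v, t, rfl⟩ := (Scheme.pointSmallEtale ξ).toPresheafFiber_jointly_surjective c
    exact (EtFound.pushStalkAt_germ_apply j z.2 F v t).trans (ShriekLib.projStalk_germ j z F V v t).symm
  exact EtFound.pushStalkAt_injective j F (funext fun z => (key z a).trans ((h z).trans (key z b).symm))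

theorem compProj_extZeroι [DecidableEq (EtFound.PtsOver j ξ)] (z z' : EtFound.PtsOver j ξ) (F : EtCoh.Ab U)
    (W : U.Etale) (w : (Scheme.pointSmallEtale z.1).fiber.obj W) (s : EtCoh.sect F W) :
    ShriekLib.compProj j z' F (EtFound.extZeroι j ξ F z ((Scheme.pointSmallEtale z.1).toPresheafFiber W w F.obj s)) =
      if h : z = z' then h ▸ (Scheme.pointSmallEtale z.1).toPresheafFiber W w F.obj s else 0 := by
  refine (ShriekLib.extZeroι_compProj j z z' F W w s).trans ?_
  split_ifs with h
  · subst h
    exact ShriekLib.germ_extSec_self j z F W w s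
  · exact ShriekLib.germ_extSec_other j z z' (Ne.symm h) F W w s

theorem trace_stalk (F : EtCoh.Ab X) (V : X.Etale) (v : (Scheme.pointSmallEtale ξ).fiber.obj V)
    (t : EtCoh.sect F V) :
    (EtCoh.stalk ξ).map ((EtCoh.pullPushAdj j).unit.app F ≫ (traceAdj j).counit.app F)
        ((Scheme.pointSmallEtale ξ).toPresheafFiber V v F.obj t) =
      Nat.card (EtFound.PtsOver j ξ) • (Scheme.pointSmallEtale ξ).toPresheafFiber V v F.obj t := by
  classical
  haveI : Finite (EtFound.PtsOver j ξ) := EtFound.finite_points j ξ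
  haveI := Fintype.ofFinite (EtFound.PtsOver j ξ)
  let F' := (EtCoh.pull j).obj F
  let u := ((EtCoh.pullPushAdj j).unit.app F).hom.app (op V) t
  let m : ∀ z : EtFound.PtsOver j ξ, (EtCoh.stalk z.1).obj F' := fun z =>
    (Scheme.pointSmallEtale z.1).toPresheafFiber ((EtCoh.bc j).obj V) (ShriekLib.pairPt j z V v) F'.obj u
  let x₀ : (EtCoh.stalk ξ).obj ((EtShriek.extZero j).obj F') := ∑ z, EtFound.extZeroι j ξ F' z (m z)
  have hx₀ : (EtCoh.stalk ξ).map ((ShriekLib.toShriek j ≫ ShriekLib.shriekShι j).app F') x₀ =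
      (EtCoh.stalk ξ).map ((EtCoh.pullPushAdj j).unit.app F) ((Scheme.pointSmallEtale ξ).toPresheafFiber V v F.obj t) := by
    refine injective_projStalk j F' _ _ fun z' => ?_
    refine (show _ = ShriekLib.compProj j z' F' x₀ from rfl).trans ?_
    rw [map_sum, Finset.sum_eq_single z' (fun z _ hz => (compProj_extZeroι j z z' F' _ _ _).trans (dif_neg hz))
      (fun h => absurd (Finset.mem_univ z') h)]
    refine ((compProj_extZeroι j z' z' F' _ _ _).trans (dif_pos rfl)).trans ?_
    refine Eq.trans ?_ (congrArg (ShriekLib.projStalk j z' F')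
      ((Scheme.pointSmallEtale ξ).toPresheafFiber_naturality_apply ((EtCoh.pullPushAdj j).unit.app F).hom V v t)).symm
    exact (ShriekLib.projStalk_germ j z' F' V v u).symm
  rw [Functor.map_comp, ConcreteCategory.comp_apply]
  refine (congrArg ((EtCoh.stalk ξ).map ((traceAdj j).counit.app F)) hx₀.symm).trans ?_
  refine ((ConcreteCategory.comp_apply _ _ _).symm.trans (ConcreteCategory.congr_hom
    (((EtCoh.stalk ξ).map_comp ((ShriekLib.toShriek j ≫ ShriekLib.shriekShι j).app F')
      ((traceAdj j).counit.app F)).symm.trans (congrArg _ (traceAdj_counit j F))) x₀)).trans ?_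
  rw [map_sum, Nat.card_eq_fintype_card, ← Finset.card_univ]
  refine Eq.trans ?_ (Finset.sum_const _)
  refine Finset.sum_congr rfl fun z _ => ?_
  rw [Functor.map_comp, ConcreteCategory.comp_apply]
  let W := (EtCoh.bc j).obj V
  let c := (compBcAdj j).counit.app V
  let e : EtCoh.sect ((EtShriek.restrAlong j).obj F) W := F.obj.map c.op t
  have h1 : ((restrIsoPull j).inv.app F).hom.app (op W) u = e := by
    rw [show u = _ from unit_eq j F V t]
    exact congr($((restrIsoPull j).hom_inv_id_app F).hom.app (op W) e)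
  have h2 : (EtCoh.stalk ξ).map ((EtShriek.extZero j).map ((restrIsoPull j).inv.app F)) (EtFound.extZeroι j ξ F' z (m z)) =
      EtFound.extZeroι j ξ ((EtShriek.restrAlong j).obj F) z
        ((Scheme.pointSmallEtale z.1).toPresheafFiber W (ShriekLib.pairPt j z V v) ((EtShriek.restrAlong j).obj F).obj e) := by
    refine (ConcreteCategory.congr_hom (EtFound.extZeroι_naturality j ξ ((restrIsoPull j).inv.app F) z).symm (m z)).trans ?_
    refine (ConcreteCategory.comp_apply _ _ _).trans (congrArg _ ?_)
    exact ((Scheme.pointSmallEtale z.1).toPresheafFiber_naturality_apply ((restrIsoPull j).inv.app F).hom W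
      (ShriekLib.pairPt j z V v) u).trans (congrArg _ h1)
  refine (congrArg ((EtCoh.stalk ξ).map ((EtShriek.extZeroAdj j).counit.app F)) h2).trans ?_
  refine (congrArg ((EtCoh.stalk ξ).map ((EtShriek.extZeroAdj j).counit.app F))
    (ConcreteCategory.congr_hom (EtFound.extZeroι_germ j ξ ((EtShriek.restrAlong j).obj F) z W
      (ShriekLib.pairPt j z V v)) e)).trans ?_
  refine ((Scheme.pointSmallEtale ξ).toPresheafFiber_naturality_apply ((EtShriek.extZeroAdj j).counit.app F).hom
    ((EtShriek.compEtale j).obj W) _ _).trans ?_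
  have h3 : ((EtShriek.extZeroAdj j).counit.app F).hom.app (op ((EtShriek.compEtale j).obj W))
      (((EtShriek.extZeroAdj j).unit.app ((EtShriek.restrAlong j).obj F)).hom.app (op W) e) = e :=
    congr($((EtShriek.extZeroAdj j).right_triangle_components F).hom.app (op W) e)
  refine (congrArg _ h3).trans ?_
  refine ((Scheme.pointSmallEtale ξ).toPresheafFiber_w_apply c _ F.obj t).trans ?_
  refine congrArg (fun q => (Scheme.pointSmallEtale ξ).toPresheafFiber V q F.obj t) ?_
  refine CategoryTheory.Over.OverMorphism.ext ?_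
  show (ShriekLib.pairPt j z V v).left ≫ c.left = v.left
  simp [c, compBcAdj, MorphismProperty.Over.mapPullbackAdj, ShriekLib.pairPt]

theorem exists_trace_adj (d : ℕ) (hd : ∀ x : X, Scheme.Hom.finrank j x = d) :
    ∃ adj : EtCoh.push j ⊣ EtCoh.pull j,
      ∀ F : EtCoh.Ab X, (EtCoh.pullPushAdj j).unit.app F ≫ adj.counit.app F = d • 𝟙 F := by
  refine ⟨traceAdj j, fun F => eq_of_algClosed_germs _ _ fun k _ _ ξ V v t => ?_⟩
  refine (trace_stalk j F V v t).trans ?_
  have : Nat.card (EtFound.PtsOver j ξ) = d := (natCard_liftsOver j ξ).trans (hd _)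
  rw [this]
  refine Eq.trans ?_ ((Scheme.pointSmallEtale ξ).toPresheafFiber_naturality_apply (d • 𝟙 F : F ⟶ F).hom V v t).symm
  refine Eq.trans (map_nsmul _ _ _).symm (congrArg _ ?_)
  clear hd this
  induction d with
  | zero => simp
  | succ n ih => simp only [succ_nsmul]; exact congrArg (· + t) ih

end EtTraceLib
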