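import Groth.Agent.S12531
import Groth.Agent.S14451
import Groth.Agent.S0071
import Groth.Agent.EtTorLib.Sections
import Groth.Agent.EtFound.Basic
import Groth.Prelude.Def_EtAcyc
import Groth.Prelude.Def_EtLim
import Mathlib.RingTheory.Coprime.Lemmas

/-! a finite etale cover of degree prime to the torsion detects vanishing of cohomology -/

universe u

open CategoryTheory CategoryTheory.Limits AlgebraicGeometry Opposite

namespace Groth.Agent.EtTraceLib

set_option backward.isDefEq.respectTransparency false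
set_option backward.isDefEq.respectTransparency.types false
set_option linter.style.haveILetI false

theorem finrank_eq_of_natCard {X X' : Scheme.{u}} (f : X' ⟶ X) [IsFinite f] [Etale f] (d : ℕ)
    (hd : ∀ (Ω : Type u) [Field Ω] [IsSepClosed Ω] (ξ : Spec (CommRingCat.of Ω) ⟶ X),
      Nat.card ↥(pullback f ξ) = d) (x : X) : f.finrank x = d := by
  let Ω := AlgebraicClosure (X.residueField x)
  let ξ : Spec (CommRingCat.of Ω) ⟶ X :=
    Spec.map (CommRingCat.ofHom (algebraMap (X.residueField x) Ω)) ≫ X.fromSpecResidueField x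
  let g := pullback.snd f ξ
  haveI : Etale g := inferInstance
  haveI : IsFinite g := inferInstance
  haveI : DiscreteTopology ↥(pullback f ξ) := by
    haveI : IsAffine (pullback f ξ) := isAffine_of_isAffineHom g
    obtain ⟨φ, hφ⟩ := Spec.map_surjective ((pullback f ξ).isoSpec.inv ≫ g)
    haveI : IsFinite (Spec.map φ) := hφ ▸ inferInstanceAs (IsFinite ((pullback f ξ).isoSpec.inv ≫ g))
    algebraize [φ.hom]
    haveI : Module.Finite Ω Γ(pullback f ξ, ⊤) :=
      RingHom.finite_algebraMap.mp ((IsFinite.SpecMap_iff (f := φ)).mp ‹IsFinite (Spec.map φ)›)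
    haveI : IsArtinianRing Γ(pullback f ξ, ⊤) := IsArtinianRing.of_finite Ω _
    haveI : DiscreteTopology (Spec Γ(pullback f ξ, ⊤)) :=
      inferInstanceAs (DiscreteTopology (PrimeSpectrum Γ(pullback f ξ, ⊤)))
    exact (pullback f ξ).isoSpec.hom.homeomorph.discreteTopology_iff.2 inferInstance
  have h1 : Nat.card {l : Spec (CommRingCat.of Ω) ⟶ pullback f ξ // l ≫ g = 𝟙 _} = Nat.card ↥(pullback f ξ) :=
    Nat.card_congr ((pointEquivClosedPoint g).trans (Equiv.subtypeUnivEquiv (p := (· ∈ closedPoints ↥(pullback f ξ)))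
      (fun z => (isClosed_discrete ({z} : Set ↥(pullback f ξ)) : IsClosed ({z} : Set ↥(pullback f ξ))))))
  have h3 := _root_.EtTraceLib.natCard_sections g
  rw [h1, hd Ω ξ, Scheme.Hom.finrank_pullback_snd f ξ] at h3
  rw [h3]
  refine congrArg f.finrank ?_
  change x = (X.fromSpecResidueField x).base _
  rw [Scheme.fromSpecResidueField_apply]

theorem coprime_of_primesIn {L : Set ℕ} {d m : ℕ} (hL : ∀ p : ℕ, p.Prime → p ∈ L → ¬ p ∣ d)
    (hm : EtAcyc.PrimesIn L m) : IsCoprime (d : ℤ) (m : ℤ) :=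
  Nat.isCoprime_iff_coprime.2 (Nat.coprime_of_dvd fun p hp hpd hpm => hL p hp (hm.2 p hp hpm) hpd)

theorem isIso_nsmul {X : Scheme.{u}} {L : Set ℕ} {d : ℕ} (hL : ∀ p : ℕ, p.Prime → p ∈ L → ¬ p ∣ d)
    {F : EtCoh.Ab X} (hF : EtAcyc.IsLTorsion L F) : IsIso (d • 𝟙 F) := by
  have happ : ∀ (U : X.Etale) (s : F.obj.obj (op U)), (d • 𝟙 F : F ⟶ F).hom.app (op U) s = (d : ℤ) • s := by
    intro U s
    rw [natCast_zsmul]
    clear hL
    induction d with
    | zero => simp
    | succ n ih => simp only [succ_nsmul]; exact congrArg (· + s) ih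
  have key : ∀ (U : X.Etale) (s : F.obj.obj (op U)) (x : U.left), ∃ (V : X.Etale) (g : V ⟶ U) (v : V.left) (a : ℤ),
      g.left.base v = x ∧ ((d : ℤ) * a) • F.obj.map g.op s = F.obj.map g.op s := by
    intro U s x
    obtain ⟨V, g, m, ⟨v, hv⟩, hm, h0⟩ := hF U s x
    obtain ⟨a, b, hab⟩ := coprime_of_primesIn hL hm
    refine ⟨V, g, v, a, hv, ?_⟩
    conv_rhs => rw [← one_zsmul (F.obj.map g.op s), ← hab]
    rw [add_zsmul, mul_comm a, mul_zsmul _ b (m : ℤ), natCast_zsmul, h0, zsmul_zero, add_zero]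
  haveI : Mono (d • 𝟙 F) := EtTorLib.mono_of_affine _ fun U _ s hs => by
    refine EtTorLib.eq_zero_of_locally s fun x => ?_
    obtain ⟨V, g, v, a, hv, ha⟩ := key U s x
    refine ⟨V, g, v, ?_, hv⟩
    rw [← ha, mul_comm, mul_zsmul, ← map_zsmul (F.obj.map g.op).hom, ← happ, hs, map_zero, zsmul_zero]
  haveI : Epi (d • 𝟙 F) := EtTorLib.epi_of_locally _ fun U s x => by
    obtain ⟨V, g, v, a, hv, ha⟩ := key U s x
    exact ⟨V, g, v, a • F.obj.map g.op s, by rw [happ, ← mul_zsmul, ha], hv⟩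
  exact isIso_of_mono_of_epi _

theorem subsingleton_H_of_cover {X X' : Scheme.{u}} (f : X' ⟶ X) [IsFinite f] [Etale f]
    (d : ℕ) (hd : ∀ (Ω : Type u) [Field Ω] [IsSepClosed Ω] (ξ : Spec (CommRingCat.of Ω) ⟶ X),
      Nat.card ↥(pullback f ξ) = d)
    (L : Set ℕ) (hL : ∀ p : ℕ, p.Prime → p ∈ L → ¬ p ∣ d) (F : EtCoh.Ab X) (hF : EtAcyc.IsLTorsion L F)
    [PreservesFiniteLimits (EtCoh.pull f)] (q : ℕ)
    (h : Subsingleton (EtCoh.H X' ((EtCoh.pull f).obj F) q)) :
    Subsingleton (EtCoh.H X F q) := by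
  haveI : Flat f := inferInstance
  haveI : LocallyOfFinitePresentation f := inferInstance
  obtain ⟨adj, hadj⟩ := Groth.Agent.S12531.result f d (finrank_eq_of_natCard f d hd)
  have hb := Groth.Agent.S14451.result f ((EtCoh.pull f).obj F)
    (fun p hp => Groth.Agent.S0071.result f ((EtCoh.pull f).obj F) p hp) q
  haveI : Subsingleton (EtCoh.H X ((EtCoh.push f).obj ((EtCoh.pull f).obj F)) q) :=
    ⟨fun a b => hb.1 (Subsingleton.elim _ _)⟩
  haveI := isIso_nsmul hL hF
  refine ⟨fun a b => (ConcreteCategory.bijective_of_isIso ((EtCoh.HF X q).map (d • 𝟙 F))).1 ?_⟩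
  rw [← hadj F, Functor.map_comp, ConcreteCategory.comp_apply, ConcreteCategory.comp_apply]
  exact congrArg _ (Subsingleton.elim (α := EtCoh.H X ((EtCoh.push f).obj ((EtCoh.pull f).obj F)) q) _ _)

end Groth.Agent.EtTraceLib
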