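import Mathlib.AlgebraicGeometry.AlgClosed.Basic
import Mathlib.AlgebraicGeometry.Morphisms.FlatRank
import Mathlib.AlgebraicGeometry.Morphisms.Etale
import Mathlib.RingTheory.Etale.Pi

/-!
# Geometric points of finite etale morphisms
-/

universe u

open CategoryTheory CategoryTheory.Limits AlgebraicGeometry

namespace EtTraceLib

set_option backward.isDefEq.respectTransparency false
set_option backward.isDefEq.respectTransparency.types false
set_option linter.style.haveILetI false

theorem natCard_sections {Ω : Type u} [Field Ω] [IsAlgClosed Ω] {P : Scheme.{u}}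
    (g : P ⟶ Spec (CommRingCat.of Ω)) [IsFinite g] [Etale g] :
    Nat.card {l : Spec (CommRingCat.of Ω) ⟶ P // l ≫ g = 𝟙 _} =
      Scheme.Hom.finrank g (default : Spec (CommRingCat.of Ω)) := by
  haveI : IsAffine P := isAffine_of_isAffineHom g
  obtain ⟨φ, hφ⟩ := Spec.map_surjective (P.isoSpec.inv ≫ g)
  haveI : IsFinite (Spec.map φ) := hφ ▸ inferInstanceAs (IsFinite (P.isoSpec.inv ≫ g))
  haveI : Etale (Spec.map φ) := hφ ▸ inferInstanceAs (Etale (P.isoSpec.inv ≫ g))
  algebraize [φ.hom]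
  haveI : Module.Finite Ω Γ(P, ⊤) := RingHom.finite_algebraMap.mp ((IsFinite.SpecMap_iff (f := φ)).mp ‹IsFinite (Spec.map φ)›)
  haveI : Algebra.Etale Ω Γ(P, ⊤) :=
    RingHom.etale_algebraMap.mp ((HasRingHomProperty.Spec_iff (P := @Etale)).mp ‹Etale (Spec.map φ)›)
  haveI : IsArtinianRing Γ(P, ⊤) := IsArtinianRing.of_finite Ω _
  haveI : Fintype (PrimeSpectrum Γ(P, ⊤)) := Fintype.ofFinite _
  haveI : DiscreteTopology P :=
    haveI : DiscreteTopology (Spec Γ(P, ⊤)) := inferInstanceAs (DiscreteTopology (PrimeSpectrum Γ(P, ⊤)))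
    P.isoSpec.hom.homeomorph.discreteTopology_iff.2 inferInstance
  have h1 : g = P.isoSpec.hom ≫ Spec.map φ := by rw [hφ, Iso.hom_inv_id_assoc]
  let E : {l : Spec (CommRingCat.of Ω) ⟶ P // l ≫ g = 𝟙 _} ≃ (Spec Γ(P, ⊤) : Scheme.{u}) :=
    (pointEquivClosedPoint g).trans ((Equiv.subtypeUnivEquiv (p := (· ∈ closedPoints P))
      (fun x : P => (isClosed_discrete ({x} : Set P) : IsClosed ({x} : Set P)))).trans P.isoSpec.hom.homeomorph.toEquiv)
  rw [Nat.card_congr E]
  conv_rhs => rw [h1, Scheme.Hom.finrank_comp_left_of_isIso]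
  rw [show φ = CommRingCat.ofHom (algebraMap Ω Γ(P, ⊤)) from rfl, Scheme.Hom.finrank_SpecMap_algebraMap,
    Module.rankAtStalk_eq_finrank_of_free, Pi.natCast_apply,
    (Algebra.FormallyEtale.equivPiOfIsSepClosed Ω Γ(P, ⊤)).toLinearEquiv.finrank_eq, Module.finrank_pi]
  show Nat.card (PrimeSpectrum Γ(P, ⊤)) = _
  rw [Nat.card_eq_fintype_card]
  simp

theorem natCard_liftsOver {X' X : Scheme.{u}} (π : X' ⟶ X) [IsFinite π] [Etale π] [Flat π]
    [LocallyOfFinitePresentation π] {Ω : Type u} [Field Ω] [IsAlgClosed Ω] (ξ : Spec (CommRingCat.of Ω) ⟶ X) :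
    Nat.card {z : Spec (CommRingCat.of Ω) ⟶ X' // z ≫ π = ξ} =
      Scheme.Hom.finrank π (ξ.base (default : Spec (CommRingCat.of Ω))) := by
  haveI : Etale (pullback.snd π ξ) := inferInstance
  rw [← Scheme.Hom.finrank_pullback_snd π ξ, ← natCard_sections (pullback.snd π ξ)]
  exact Nat.card_congr
    { toFun := fun z => ⟨pullback.lift z.1 (𝟙 _) (z.2.trans (Category.id_comp _).symm), pullback.lift_snd _ _ _⟩
      invFun := fun l => ⟨l.1 ≫ pullback.fst π ξ, by
        rw [Category.assoc, pullback.condition, ← Category.assoc, l.2, Category.id_comp]⟩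
      left_inv := fun z => Subtype.ext (pullback.lift_fst _ _ _)
      right_inv := fun l => Subtype.ext (pullback.hom_ext (pullback.lift_fst _ _ _)
        ((pullback.lift_snd _ _ _).trans l.2.symm)) }

end EtTraceLib
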